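import Cfsg.Agent.BlockChar.RegInner
import Cfsg.Agent.BlockChar.Contribution
import Cfsg.Agent.Invol.Section942
import Cfsg.Agent.Char.Linear

/-!
# Principal blocks for two primes meeting trivially

If the principal `p`-block and the principal `q`-block share only the principal character then
every `p`-element centralises a Sylow `q`-subgroup.
-/

namespace Cfsg.Agent.BlockDisjoint

open Cfsg.Agent
open Cfsg.Agent.Blocks (pPartOf pPrimePartOf)
open scoped ComplexConjugate

universe u

variable {G : Type u} [Group G] [Fintype G] {p q : ℕ} {M N : Ideal Cfsg.AlgInt}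

/-- Outside the principal block the sum over the regular elements vanishes. -/
theorem regSum_eq_zero_of_notMem (hN : Cfsg.IsPModular q N) {ψ : Cfsg.IrrCharacter G}
    (hψ : ψ ∉ Cfsg.principalBlock N G) :
    BlockChar.regSum q (fun w => conj ((ψ : G → ℂ) w)) = 0 := by
  classical
  set B := Cfsg.principalBlock N G with hB'
  set t := Blocks.triv G with ht'
  have hB : Cfsg.IsPBlock N B := Blocks.isPBlock_principalBlock (G := G) N
  have ht : t ∈ B := Blocks.triv_mem_principalBlock hN
  set K : ℂ := ((q ^ Cfsg.blockDefect q B : ℕ) : ℂ) with hK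
  have hK0 : K ≠ 0 := Nat.cast_ne_zero.2 (pow_ne_zero _ hN.1.ne_zero)
  refine (mul_eq_zero.1 (?_ : K * _ = 0)).resolve_left hK0
  calc K * BlockChar.regSum q (fun w => conj ((ψ : G → ℂ) w))
      = ∑ w : G, (∑ φ : Cfsg.IrrCharacter G,
          (if φ ∈ B then BlockChar.regM q B t φ * (φ : G → ℂ) w else 0)) *
            conj ((ψ : G → ℂ) w) := by
        rw [BlockChar.regSum, Finset.mul_sum]
        refine Finset.sum_congr rfl fun w _ => ?_
        rw [BlockChar.sum_regM_mul hN hB ht w]
        by_cases h : Cfsg.IsPRegular q w <;> simp [h, ht', Blocks.triv, hK]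
    _ = ∑ φ : Cfsg.IrrCharacter G, if φ ∈ B then BlockChar.regM q B t φ *
          ∑ w : G, (φ : G → ℂ) w * conj ((ψ : G → ℂ) w) else 0 := by
        simp only [Finset.sum_mul]
        rw [Finset.sum_comm]
        refine Finset.sum_congr rfl fun φ _ => ?_
        split_ifs
        · rw [Finset.mul_sum]
          exact Finset.sum_congr rfl fun w _ => by ring
        · simp
    _ = 0 := by
        refine Finset.sum_eq_zero fun φ _ => ?_
        split_ifs with h
        · have h0 := (Char.classInner_irrChar φ ψ).trans (if_neg (show φ ≠ ψ from fun e => hψ (e ▸ h)))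
          rw [Cfsg.classInner, mul_eq_zero, inv_eq_zero] at h0
          rw [h0.resolve_left (Nat.cast_ne_zero.2 Nat.card_pos.ne'), mul_zero]
        · rfl

theorem regSum_one [DecidablePred (Cfsg.IsPRegular (G := G) q)] :
    BlockChar.regSum q (fun _ : G => (1 : ℂ)) =
      ((Finset.univ.filter (Cfsg.IsPRegular (G := G) q)).card : ℂ) := by
  rw [BlockChar.regSum_eq_filter]; simp

/-- The number of regular elements is prime to the prime. -/
theorem not_dvd_card_regular (hN : Cfsg.IsPModular q N)
    [DecidablePred (Cfsg.IsPRegular (G := G) q)] :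
    ¬ q ∣ (Finset.univ.filter (Cfsg.IsPRegular (G := G) q)).card := by
  intro hd
  set B := Cfsg.principalBlock N G
  set t := Blocks.triv G with ht'
  have ht : t ∈ B := Blocks.triv_mem_principalBlock hN
  have hh : Cfsg.blockHeight q B (t : G → ℂ) = 0 := by
    have : Cfsg.charDegree (t : G → ℂ) = 1 := by simp [Cfsg.charDegree, ht', Blocks.triv]
    simp [BlockChar.blockHeight_eq, this]
  refine BlockChar.not_memLocalIdeal_omega_regConj hN (Blocks.isPBlock_principalBlock (G := G) N)
    ht ht hh ?_
  have e := BlockChar.regSum_eq_omega (p := q) t.2 (t : G → ℂ)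
  simp only [ht', Blocks.triv, map_one, mul_one, one_mul] at e
  rw [regSum_one] at e
  simp only [ht', Blocks.triv]
  rw [← e]
  exact (Blocks.memLocalIdeal_natCast_iff hN _).2 hd

/-- The sum of a character over the elements regular for two primes. -/
theorem intMul_regSum_inter {H : Type u} [Group H] [Fintype H] (hp : p.Prime) (hq : q.Prime)
    {η : H → ℂ} (hη : Cfsg.IsCharacter H η) [DecidablePred (Cfsg.IsPRegular (G := H) p)] :
    BlockChar.IntMul (Nat.card H / q ^ (Nat.card H).factorization q)
      (BlockChar.regSum q (fun h => if Cfsg.IsPRegular p h then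
        ((p ^ (Nat.card H).factorization p : ℕ) : ℂ) * η h else 0)) := by
  classical
  set P : ℂ := ((p ^ (Nat.card H).factorization p : ℕ) : ℂ) with hP
  set m := Nat.card H / p ^ (Nat.card H).factorization p with hm
  set f : H → ℂ := fun h => if Cfsg.IsPRegular p h then P else 0 with hf'
  have hf : Cfsg.IsClassFunction H f := fun g k => by
    have : orderOf (k * g * k⁻¹) = orderOf g :=
      orderOf_injective (MulAut.conj k).toMonoidHom (MulAut.conj k).injective g
    simp only [hf']
    exact if_congr (by simp only [Cfsg.IsPRegular, this]) rfl rfl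
  have hPm : P * (m : ℂ) = (Nat.card H : ℂ) := by
    rw [hP, hm, ← Nat.cast_mul, Nat.ordProj_mul_ordCompl_eq_self]
  have hk : ∀ φ : Cfsg.IrrCharacter H, ∃ k : ℤ, Cfsg.classInner f (φ : H → ℂ) = (k : ℂ) := by
    intro φ
    obtain ⟨k, hk⟩ := BlockChar.exists_int_regSum (G := H) hp
      (Char.isCharacter_conj (Char.IsIrr.isCharacter φ.2))
    refine ⟨k, ?_⟩
    have e : Cfsg.classInner f (φ : H → ℂ) = (Nat.card H : ℂ)⁻¹ *
        (P * BlockChar.regSum p (fun w => conj ((φ : H → ℂ) w))) := by
      rw [Cfsg.classInner, BlockChar.regSum, Finset.mul_sum (a := P)]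
      congr 1
      exact Finset.sum_congr rfl fun w _ => by simp only [hf', ite_mul, zero_mul, mul_ite, mul_zero]
    rw [e, hk, ← mul_assoc P, hPm, ← mul_assoc,
      inv_mul_cancel₀ (Nat.cast_ne_zero.2 Nat.card_pos.ne'), one_mul]
  choose k hk using hk
  have hexp : (fun h => if Cfsg.IsPRegular p h then P * η h else 0) =
      fun h => ∑ φ : Cfsg.IrrCharacter H, (k φ : ℂ) * ((φ : H → ℂ) h * η h) := by
    funext h
    have e := congrFun (Char.classFun_expansion hf) h
    simp only [Finset.sum_apply, Pi.smul_apply, smul_eq_mul, hk] at e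
    calc (if Cfsg.IsPRegular p h then P * η h else 0) = f h * η h := by
          simp only [hf', ite_mul, zero_mul]
      _ = _ := by rw [e, Finset.sum_mul]; exact Finset.sum_congr rfl fun φ _ => by ring
  rw [hexp]
  have hsum : BlockChar.regSum q (fun h => ∑ φ : Cfsg.IrrCharacter H,
      (k φ : ℂ) * ((φ : H → ℂ) h * η h)) = ∑ φ : Cfsg.IrrCharacter H,
      (k φ : ℂ) * BlockChar.regSum q (fun h => (φ : H → ℂ) h * η h) := by
    simp only [BlockChar.regSum, Finset.mul_sum]
    rw [Finset.sum_comm]
    refine Finset.sum_congr rfl fun h _ => ?_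
    split_ifs <;> simp
  rw [hsum]
  refine BlockChar.IntMul.sum _ fun φ _ => ?_
  obtain ⟨j, hj⟩ := BlockChar.exists_int_regSum (G := H) hq
    (Char.isCharacter_mul (Char.IsIrr.isCharacter φ.2) hη)
  have hj' : BlockChar.regSum q (fun h => (φ : H → ℂ) h * η h) = _ := hj
  exact ⟨((k φ * j : ℤ) : ℂ), Blocks.isIntegral_intCast _, by rw [hj']; push_cast; ring⟩

/-- A translate of a character by a central element of the subgroup. -/
theorem intMul_translate (hp : p.Prime) (hq : q.Prime) {x : G}
    {H : Subgroup G} [Fintype H] {s : H} (hs : s ∈ Subgroup.center H) (hsx : (s : G) = x)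
    [DecidablePred (Cfsg.IsPRegular (G := H) p)] (χ : Cfsg.IrrCharacter G) :
    BlockChar.IntMul (Nat.card H / q ^ (Nat.card H).factorization q)
      (BlockChar.regSum q (fun h : H => if Cfsg.IsPRegular p h then
        ((p ^ (Nat.card H).factorization p : ℕ) : ℂ) * conj ((χ : G → ℂ) (x * (h : G))) else 0)) := by
  classical
  set P : ℂ := ((p ^ (Nat.card H).factorization p : ℕ) : ℂ) with hP
  set τ : H → ℂ := fun t => (χ : G → ℂ) (x * (t : G)) with hτ
  have hτc : Cfsg.IsClassFunction H τ := fun g k => by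
    have hk : Commute x (k : G) := by
      have := congrArg Subtype.val (Subgroup.mem_center_iff.1 hs k)
      rw [Subgroup.coe_mul, Subgroup.coe_mul, hsx] at this
      exact this.symm
    simp only [hτ]
    rw [← Char.isClassFunction_of_isIrr χ.2 (x * (g : G)) (k : G)]
    simp only [Subgroup.coe_mul, Subgroup.coe_inv, ← mul_assoc, hk.eq]
  have hint : ∀ φ : Cfsg.IrrCharacter H,
      IsIntegral ℤ (conj (Cfsg.classInner τ (φ : H → ℂ))) := by
    intro φ
    refine IsIntegral.map ((starRingEnd ℂ).toIntAlgHom) ?_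
    show IsIntegral ℤ (BlockChar.subMult x H χ φ)
    rw [BlockChar.subMult_eq hs hsx]
    refine IsIntegral.mul ?_ ?_
    · refine IsIntegral.of_pow (orderOf_pos s) ?_
      rw [BlockChar.subScalar_pow_eq_one hs (pow_orderOf_eq_one s) φ]
      exact isIntegral_one
    · obtain ⟨n, hn⟩ := Char.classInner_isCharacter_eq_natCast
        (Char.isCharacter_res H (Char.IsIrr.isCharacter χ.2)) (Char.IsIrr.isCharacter φ.2)
      show IsIntegral ℤ (Cfsg.classInner _ _)
      rw [hn]
      exact Blocks.isIntegral_natCast n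
  have hexp : (fun h : H => if Cfsg.IsPRegular p h then P * conj ((χ : G → ℂ) (x * (h : G))) else 0)
      = fun h : H => ∑ φ : Cfsg.IrrCharacter H, conj (Cfsg.classInner τ (φ : H → ℂ)) *
        (if Cfsg.IsPRegular p h then P * conj ((φ : H → ℂ) h) else 0) := by
    funext h
    have e := congrFun (Char.classFun_expansion hτc) h
    simp only [Finset.sum_apply, Pi.smul_apply, smul_eq_mul] at e
    split_ifs
    · rw [show (χ : G → ℂ) (x * (h : G)) = τ h from rfl, e, map_sum, Finset.mul_sum]
      exact Finset.sum_congr rfl fun φ _ => by rw [map_mul]; ring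
    · simp
  rw [hexp]
  have hsum : BlockChar.regSum q (fun h : H => ∑ φ : Cfsg.IrrCharacter H,
      conj (Cfsg.classInner τ (φ : H → ℂ)) *
        (if Cfsg.IsPRegular p h then P * conj ((φ : H → ℂ) h) else 0)) =
      ∑ φ : Cfsg.IrrCharacter H, conj (Cfsg.classInner τ (φ : H → ℂ)) *
        BlockChar.regSum q (fun h : H =>
          if Cfsg.IsPRegular p h then P * conj ((φ : H → ℂ) h) else 0) := by
    simp only [BlockChar.regSum, Finset.mul_sum]
    rw [Finset.sum_comm]
    refine Finset.sum_congr rfl fun h _ => ?_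
    split_ifs <;> simp
  rw [hsum]
  refine BlockChar.IntMul.sum _ fun φ _ => ?_
  obtain ⟨c, hc, e⟩ := intMul_regSum_inter (H := H) hp hq
    (Char.isCharacter_conj (Char.IsIrr.isCharacter φ.2))
  exact ⟨_ * c, (hint φ).mul hc, by rw [show BlockChar.regSum q _ = _ from e]; ring⟩

/-- Every `p`-element centralises a Sylow `q`-subgroup. -/
theorem factorization_centralizer (hM : Cfsg.IsPModular p M) (hN : Cfsg.IsPModular q N)
    (hpq : p ≠ q)
    (hdis : ∀ χ : Cfsg.IrrCharacter G, χ ∈ Cfsg.principalBlock M G →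
      χ ∈ Cfsg.principalBlock N G → (χ : G → ℂ) = fun _ => 1)
    {x : G} (hx : ∃ k, orderOf x = p ^ k) :
    (Nat.card ↥(Subgroup.centralizer ({x} : Set G))).factorization q =
      (Nat.card G).factorization q := by
  classical
  have hp := hM.1
  have hq := hN.1
  set H := Subgroup.centralizer ({x} : Set G) with hH
  set B := Cfsg.principalBlock M G with hB'
  set t := Blocks.triv G with ht'
  have hB : Cfsg.IsPBlock M B := Blocks.isPBlock_principalBlock (G := G) M
  have ht : t ∈ B := Blocks.triv_mem_principalBlock hM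
  set Φ : G → ℂ := fun v => ∑ ψ : Cfsg.IrrCharacter G,
    if ψ ∈ B then (ψ : G → ℂ) x * conj ((ψ : G → ℂ) v) else 0 with hΦ
  set F : G → ℂ := fun v => if Cfsg.IsPRegular q v then Φ v else 0 with hF
  set nq := (Finset.univ.filter (Cfsg.IsPRegular (G := G) q)).card with hnq
  -- only the principal character contributes
  have htot : ∑ v : G, F v = (nq : ℂ) := by
    have e1 : ∑ v : G, F v = ∑ ψ : Cfsg.IrrCharacter G, if ψ ∈ B then
        (ψ : G → ℂ) x * BlockChar.regSum q (fun w => conj ((ψ : G → ℂ) w)) else 0 := by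
      simp only [hF, hΦ, BlockChar.regSum, Finset.mul_sum]
      rw [Finset.sum_congr rfl (g := fun v => ∑ ψ : Cfsg.IrrCharacter G, if ψ ∈ B then
        (if Cfsg.IsPRegular q v then (ψ : G → ℂ) x * conj ((ψ : G → ℂ) v) else 0) else 0)
        (fun v _ => by split_ifs <;> simp), Finset.sum_comm]
      refine Finset.sum_congr rfl fun ψ _ => ?_
      split_ifs
      · exact Finset.sum_congr rfl fun v _ => by split_ifs <;> simp
      · simp
    rw [e1, Finset.sum_eq_single t]
    · rw [if_pos ht]
      simp only [ht', Blocks.triv, map_one, one_mul]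
      exact regSum_one
    · intro ψ _ hne
      split_ifs with h
      · rw [regSum_eq_zero_of_notMem hN fun h' => hne (Subtype.ext (hdis ψ h h')), mul_zero]
      · rfl
    · simp
  -- support
  have hΦ0 : ∀ v, ¬ IsConj x (pPartOf p v) → Φ v = 0 := by
    intro v hv
    have hinv : pPartOf p v⁻¹ = (pPartOf p v)⁻¹ := by
      simp [Blocks.pPartOf, orderOf_inv, inv_pow]
    have hxx : pPartOf p x = x := by
      refine (Blocks.eq_pPartOf hp _ ⟨1, mul_one x, Commute.one_right x, hx, ?_⟩).symm
      rw [orderOf_one]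
      exact hp.not_dvd_one
    have := Blocks.block_orthogonality hM hB x v⁻¹ (by rwa [hinv, inv_inv, hxx])
    rw [finsum_mem_eq_finite_toFinset_sum _ B.toFinite] at this
    simp only [hΦ, ← Finset.sum_filter]
    rw [show Finset.univ.filter (fun χ => χ ∈ B) = B.toFinite.toFinset by ext; simp,
      ← this]
    refine Finset.sum_congr rfl fun ψ _ => ?_
    rw [Char.IsChar.inv_eq_conj (Char.IsIrr.isCharacter ψ.2)]
  have hcl : ∀ g k : G, F (k * g * k⁻¹) = F g := by
    intro g k
    have : orderOf (k * g * k⁻¹) = orderOf g :=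
      orderOf_injective (MulAut.conj k).toMonoidHom (MulAut.conj k).injective g
    simp only [hF, hΦ, Cfsg.IsPRegular, this,
      fun ψ : Cfsg.IrrCharacter G => Char.isClassFunction_of_isIrr ψ.2 g k]
  -- collect the section
  set T : ℂ := ∑ v ∈ Finset.univ.filter (fun v => pPartOf p v = x), F v with hT
  have hsec : ∑ v : G, F v = (H.index : ℂ) * T := by
    rw [← Finset.sum_fiberwise Finset.univ (fun v => pPartOf p v) F,
      ← Char.card_isConj_eq_index, Nat.card_eq_fintype_card, Fintype.card_subtype]
    rw [← Finset.sum_filter_add_sum_filter_not Finset.univ (fun u => IsConj x u)]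
    have h0 : ∑ u ∈ Finset.univ.filter (fun u => ¬ IsConj x u),
        ∑ v ∈ Finset.univ.filter (fun v => pPartOf p v = u), F v = 0 := by
      refine Finset.sum_eq_zero fun u hu => Finset.sum_eq_zero fun v hv => ?_
      simp only [hF]
      rw [hΦ0 v (by rw [(Finset.mem_filter.1 hv).2]; exact (Finset.mem_filter.1 hu).2), ite_self]
    rw [h0, add_zero, Finset.sum_congr rfl (g := fun _ => T), Finset.sum_const, nsmul_eq_mul]
    intro u hu
    obtain ⟨k, hk⟩ := isConj_iff.1 (Finset.mem_filter.1 hu).2
    refine (Finset.sum_equiv (MulAut.conj k).toEquiv (fun v => ?_) (fun v _ => ?_)).symm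
    · simp only [Finset.mem_filter, Finset.mem_univ, true_and, MulEquiv.toEquiv_eq_coe,
        MulEquiv.coe_toEquiv, MulAut.conj_apply, Blocks.pPartOf_conj, ← hk, mul_left_inj,
        mul_right_inj]
    · exact (hcl v k).symm
  -- integrality
  have hxH : x ∈ H := Subgroup.mem_centralizer_singleton_iff.2 rfl
  set P : ℂ := ((p ^ (Nat.card H).factorization p : ℕ) : ℂ) with hP
  set m := Nat.card H / q ^ (Nat.card H).factorization q with hm
  obtain ⟨kx, hkx⟩ := hx
  have hTH : P * T = ∑ ψ : Cfsg.IrrCharacter G, if ψ ∈ B then (ψ : G → ℂ) x *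
      BlockChar.regSum q (fun h : H => if Cfsg.IsPRegular p h then
        P * conj ((ψ : G → ℂ) (x * (h : G))) else 0) else 0 := by
    have hbij : T = ∑ h ∈ Finset.univ.filter (fun h : H => Cfsg.IsPRegular p h),
        F (x * (h : G)) := by
      refine (Finset.sum_bij (fun (h : H) _ => x * (h : G)) ?_ ?_ ?_ ?_).symm
      · intro h hh
        refine Finset.mem_filter.2 ⟨Finset.mem_univ _, (Blocks.eq_pPartOf hp _ ⟨(h : G), rfl, ?_,
          ⟨kx, hkx⟩, ?_⟩).symm⟩
        · exact (Subgroup.mem_centralizer_singleton_iff.1 h.2).symm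
        · rw [Subgroup.orderOf_coe]; exact (Finset.mem_filter.1 hh).2
      · exact fun a _ b _ hab => Subtype.ext (mul_left_cancel hab)
      · intro v hv
        have hv' := (Finset.mem_filter.1 hv).2
        have hc : Commute x (pPrimePartOf p v) := hv' ▸ Blocks.commute_pPartOf_pPrimePartOf v
        refine ⟨⟨pPrimePartOf p v, Subgroup.mem_centralizer_singleton_iff.2 hc.symm⟩,
          Finset.mem_filter.2 ⟨Finset.mem_univ _, ?_⟩, ?_⟩
        · rw [Cfsg.IsPRegular, ← Subgroup.orderOf_coe]
          exact Blocks.not_dvd_orderOf_pPrimePartOf hp v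
        · show x * pPrimePartOf p v = v
          rw [← hv']; exact Blocks.pPartOf_mul_pPrimePartOf hp v
      · exact fun _ _ => rfl
    have hqreg : ∀ h : H, Cfsg.IsPRegular p h →
        (Cfsg.IsPRegular q (x * (h : G)) ↔ Cfsg.IsPRegular q h) := by
      intro h hh
      have hc : Commute x (h : G) := (Subgroup.mem_centralizer_singleton_iff.1 h.2).symm
      have hco : (orderOf x).Coprime (orderOf (h : G)) := by
        rw [hkx, Subgroup.orderOf_coe]
        exact ((hp.coprime_iff_not_dvd).2 hh).pow_left kx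
      simp only [Cfsg.IsPRegular, hc.orderOf_mul_eq_mul_orderOf_of_coprime hco, hkx,
        Subgroup.orderOf_coe, hq.dvd_mul]
      have hn : ¬ q ∣ p ^ kx := fun h' =>
        hpq.symm ((Nat.prime_dvd_prime_iff_eq hq hp).1 (hq.dvd_of_dvd_pow h'))
      tauto
    rw [hbij, Finset.sum_filter, Finset.mul_sum]
    simp only [BlockChar.regSum, Finset.mul_sum]
    rw [Finset.sum_congr rfl (g := fun h : H => ∑ ψ : Cfsg.IrrCharacter G, if ψ ∈ B then
      (ψ : G → ℂ) x * (if Cfsg.IsPRegular q h then (if Cfsg.IsPRegular p h then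
        P * conj ((ψ : G → ℂ) (x * (h : G))) else 0) else 0) else 0) ?_, Finset.sum_comm]
    · refine Finset.sum_congr rfl fun ψ _ => ?_
      split_ifs <;> simp
    · intro h _
      by_cases hh : Cfsg.IsPRegular p h
      · simp only [if_pos hh, hF, hqreg h hh]
        by_cases hh' : Cfsg.IsPRegular q h
        · simp only [if_pos hh', hΦ, Finset.mul_sum]
          exact Finset.sum_congr rfl fun ψ _ => by split_ifs <;> ring
        · simp [if_neg hh']
      · simp [if_neg hh]
  have hint : BlockChar.IntMul m (P * T) := by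
    rw [hTH]
    refine BlockChar.IntMul.sum _ fun ψ _ => ?_
    split_ifs
    · have hs : (⟨x, hxH⟩ : H) ∈ Subgroup.center H := Subgroup.mem_center_iff.2 fun g =>
        Subtype.ext (Subgroup.mem_centralizer_singleton_iff.1 g.2)
      obtain ⟨c, hc, e⟩ := intMul_translate (x := x) (H := H) hp hq hs rfl ψ
      exact ⟨(ψ : G → ℂ) x * c,
        (Char.IsChar.isIntegral (Char.IsIrr.isCharacter ψ.2) x).mul hc, by rw [e]; ring⟩
    · exact ⟨0, isIntegral_zero, by simp⟩
  obtain ⟨c, hc, hPT⟩ := hint
  -- compare the exponents of q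
  have hidx : 0 < H.index := Nat.pos_of_ne_zero Subgroup.index_ne_zero_of_finite
  have hm0 : 0 < m := Nat.ordCompl_pos q Nat.card_pos.ne'
  have hc' : c = (((p ^ (Nat.card H).factorization p * nq : ℕ) : ℚ) /
      ((H.index * m : ℕ) : ℚ) : ℚ) := by
    push_cast
    rw [eq_div_iff (mul_ne_zero (Nat.cast_ne_zero.2 hidx.ne') (Nat.cast_ne_zero.2 hm0.ne'))]
    rw [← htot, hsec]
    push_cast [hP] at hPT
    linear_combination -(H.index : ℂ) * hPT
  obtain ⟨n, hn⟩ := Blocks.exists_int_of_isIntegral_rat hc _ hc'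
  have hdvd : (H.index * m : ℕ) ∣ p ^ (Nat.card H).factorization p * nq := by
    rw [hc'] at hn
    have e : (((p ^ (Nat.card H).factorization p * nq : ℕ) : ℤ) : ℚ) =
        (((H.index * m : ℕ) : ℤ) : ℚ) * (n : ℚ) := by
      have h1 : (((p ^ (Nat.card H).factorization p * nq : ℕ) : ℚ) /
          ((H.index * m : ℕ) : ℚ)) = (n : ℚ) := by exact_mod_cast hn
      rw [div_eq_iff (Nat.cast_ne_zero.2 (Nat.mul_pos hidx hm0).ne')] at h1
      push_cast at h1 ⊢
      linear_combination h1
    exact Int.natCast_dvd_natCast.1 ⟨n, by exact_mod_cast e⟩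
  have hnd : ¬ q ∣ H.index := fun h => by
    rcases hq.dvd_mul.1 ((h.trans (dvd_mul_right _ m)).trans hdvd) with h1 | h1
    · exact hpq ((Nat.prime_dvd_prime_iff_eq hq hp).1 (hq.dvd_of_dvd_pow h1)).symm
    · exact not_dvd_card_regular hN h1
  rw [← Subgroup.card_mul_index H, Nat.factorization_mul Nat.card_pos.ne' hidx.ne',
    Finsupp.add_apply, Nat.factorization_eq_zero_of_not_dvd hnd, add_zero]

end Cfsg.Agent.BlockDisjoint
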